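import Groth.Agent.Lib.AdeqA.BaseChange
import Mathlib.Algebra.Category.CommAlgCat.Basic
import Mathlib.CategoryTheory.Limits.Preserves.Over
import Mathlib.Algebra.Category.Ring.FilteredColimits
import Mathlib.CategoryTheory.Limits.Types.Filtered
import Mathlib.LinearAlgebra.TensorProduct.RightExactness
import Mathlib.LinearAlgebra.DirectSum.Finsupp

/-!
# Adequate functors commute with filtered colimits
-/

set_option autoImplicit false
set_option backward.isDefEq.respectTransparency false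
set_option linter.style.haveILetI false

universe u

open CategoryTheory Opposite Limits TensorProduct

noncomputable section

namespace Groth.Agent.AdeqColim5

open Groth.Agent.AdeqA

variable {A : Type u} [CommRing A] {J : Type u} [SmallCategory J] [IsFiltered J]

theorem preserves_forget_commAlgCat : PreservesColimitsOfShape J (forget (CommAlgCat.{u} A)) :=
  preservesColimitsOfShape_of_natIso
    (F := (commAlgCatEquivUnder (CommRingCat.of A)).functor ⋙ Under.forget (CommRingCat.of A) ⋙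
      forget CommRingCat.{u})
    (NatIso.ofComponents (fun _ => Iso.refl _) fun _ => rfl)

variable {D : J ⥤ Adeq.Alg A} {c : Cocone D} (hc : IsColimit c)

/-- The transition map on `D_i ⊗ M`. -/
abbrev tr {B B' : Adeq.Alg A} (f : B ⟶ B') (M : Type (u + 1)) [AddCommGroup M] [Module A M] :
    (B : Type u) ⊗[A] M →ₗ[A] (B' : Type u) ⊗[A] M :=
  f.hom.toLinearMap.rTensor M

theorem tr_comp {B B' B'' : Adeq.Alg A} (f : B ⟶ B') (g : B' ⟶ B'') (M : Type (u + 1)) [AddCommGroup M]
    [Module A M] (x : (B : Type u) ⊗[A] M) : tr (f ≫ g) M x = tr g M (tr f M x) := by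
  simp only [tr, CommAlgCat.hom_comp, AlgHom.comp_toLinearMap, LinearMap.rTensor_comp, LinearMap.comp_apply]

theorem tr_map {i j : J} (f : i ⟶ j) (M : Type (u + 1)) [AddCommGroup M] [Module A M]
    (x : (D.obj i : Type u) ⊗[A] M) : tr (c.ι.app j) M (tr (D.map f) M x) = tr (c.ι.app i) M x := by
  rw [← tr_comp, c.w]
  rfl

include hc in
theorem exists_alg_lift (b : c.pt) : ∃ (j : J) (a : D.obj j), (c.ι.app j).hom a = b := by
  haveI := preserves_forget_commAlgCat (A := A) (J := J)
  obtain ⟨j, a, ha⟩ := Types.jointly_surjective _ (isColimitOfPreserves (forget (CommAlgCat.{u} A)) hc) b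
  exact ⟨j, a, ha⟩

include hc in
theorem exists_alg_eq_zero {j : J} (a : D.obj j) (h : (c.ι.app j).hom a = 0) :
    ∃ (k : J) (f : j ⟶ k), (D.map f).hom a = 0 := by
  haveI := preserves_forget_commAlgCat (A := A) (J := J)
  have h0 : (forget (CommAlgCat.{u} A)).map (c.ι.app j) a =
      (forget (CommAlgCat.{u} A)).map (c.ι.app j) (0 : D.obj j) := h.trans (map_zero (c.ι.app j).hom).symm
  obtain ⟨k, f, g, e⟩ := (Types.FilteredColimit.isColimit_eq_iff _
    (isColimitOfPreserves (forget (CommAlgCat.{u} A)) hc)).1 h0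
  refine ⟨k, f, ?_⟩
  exact e.trans (map_zero (D.map g).hom)

variable {M : Type (u + 1)} [AddCommGroup M] [Module A M]

include hc in
theorem exists_tensor_lift (z : (c.pt : Type u) ⊗[A] M) :
    ∃ (j : J) (y : (D.obj j : Type u) ⊗[A] M), tr (c.ι.app j) M y = z := by
  induction z using TensorProduct.induction_on with
  | zero => exact ⟨IsFiltered.nonempty.some, 0, map_zero _⟩
  | tmul b m =>
    obtain ⟨j, a, rfl⟩ := exists_alg_lift hc b
    exact ⟨j, a ⊗ₜ m, rfl⟩
  | add x y hx hy =>
    obtain ⟨i, x, rfl⟩ := hx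
    obtain ⟨j, y, rfl⟩ := hy
    refine ⟨IsFiltered.max i j, tr (D.map (IsFiltered.leftToMax i j)) M x +
      tr (D.map (IsFiltered.rightToMax i j)) M y, ?_⟩
    rw [map_add, tr_map, tr_map]

include hc in
theorem exists_free_eq_zero {κ : Type (u + 1)} {j : J} (x : (D.obj j : Type u) ⊗[A] (κ →₀ A))
    (h : tr (c.ι.app j) (κ →₀ A) x = 0) :
    ∃ (k : J) (f : j ⟶ k), tr (D.map f) (κ →₀ A) x = 0 := by
  classical
  let e : ∀ B : Adeq.Alg A, (B : Type u) ⊗[A] (κ →₀ A) ≃ₗ[A] (κ →₀ B) := fun B =>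
    TensorProduct.finsuppScalarRight A A B κ
  have hnat : ∀ {B B' : Adeq.Alg A} (f : B ⟶ B') (w : (B : Type u) ⊗[A] (κ →₀ A)) (i : κ),
      e B' (tr f (κ →₀ A) w) i = f.hom (e B w i) := by
    intro B B' f w i
    induction w using TensorProduct.induction_on with
    | zero => simp
    | tmul b s => simp [e, tr]
    | add u v hu hv => simp [map_add, hu, hv]
  have hz : ∀ i, (c.ι.app j).hom (e _ x i) = 0 := fun i => by rw [← hnat, h, map_zero]; rfl
  choose k f hf using fun i => exists_alg_eq_zero hc (e _ x i) (hz i)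
  obtain ⟨m, g, hg⟩ : ∃ (m : J) (g : j ⟶ m), ∀ i ∈ (e _ x).support, (D.map g).hom (e _ x i) = 0 := by
    generalize (e _ x).support = s
    induction s using Finset.induction_on with
    | empty => exact ⟨j, 𝟙 j, by simp⟩
    | insert i s _ ih =>
      obtain ⟨m, g, hg⟩ := ih
      obtain ⟨m', a, b, hab⟩ := IsFiltered.span (f i) g
      refine ⟨m', g ≫ b, fun l hl => ?_⟩
      rcases Finset.mem_insert.1 hl with rfl | hl
      · rw [← hab, D.map_comp, CommAlgCat.hom_comp, AlgHom.comp_apply, hf, map_zero]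
      · rw [D.map_comp, CommAlgCat.hom_comp, AlgHom.comp_apply, hg l hl, map_zero]
  refine ⟨m, g, (e _).injective ?_⟩
  ext i
  rw [hnat, map_zero, Finsupp.zero_apply]
  by_cases hi : i ∈ (e _ x).support
  · exact hg i hi
  · rw [Finsupp.notMem_support_iff.1 hi, map_zero]

include hc in
theorem exists_tensor_eq_zero {j : J} (z : (D.obj j : Type u) ⊗[A] M) (h : tr (c.ι.app j) M z = 0) :
    ∃ (k : J) (f : j ⟶ k), tr (D.map f) M z = 0 := by
  let p : (M →₀ A) →ₗ[A] M := Finsupp.linearCombination A id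
  have hp : Function.Surjective p := Finsupp.linearCombination_id_surjective A M
  let q : (LinearMap.ker p →₀ A) →ₗ[A] (M →₀ A) :=
    (LinearMap.ker p).subtype.comp (Finsupp.linearCombination A id)
  have hq : Function.Exact q p := by
    intro y
    refine ⟨fun hy => ?_, ?_⟩
    · obtain ⟨w, hw⟩ := Finsupp.linearCombination_id_surjective A (LinearMap.ker p) ⟨y, hy⟩
      exact ⟨w, congrArg Subtype.val hw⟩
    · rintro ⟨w, rfl⟩
      exact (Finsupp.linearCombination A id w : LinearMap.ker p).2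
  have hnat : ∀ {P Q : Type (u + 1)} [AddCommGroup P] [AddCommGroup Q] [Module A P] [Module A Q]
      (φ : P →ₗ[A] Q) {B B' : Adeq.Alg A} (f : B ⟶ B') (w : (B : Type u) ⊗[A] P),
      tr f Q (φ.lTensor _ w) = φ.lTensor _ (tr f P w) := by
    intro P Q _ _ _ _ φ B B' f w
    induction w using TensorProduct.induction_on with
    | zero => simp
    | tmul b m => simp [tr]
    | add u v hu hv => simp only [map_add, hu, hv]
  obtain ⟨w, rfl⟩ := LinearMap.lTensor_surjective (D.obj j : Type u) hp z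
  rw [hnat] at h
  obtain ⟨y, hy⟩ := ((lTensor_exact (c.pt : Type u) hq hp) _).1 h
  obtain ⟨i, y, rfl⟩ := exists_tensor_lift hc y
  let m := IsFiltered.max j i
  have h0 : tr (c.ι.app m) (M →₀ A) (tr (D.map (IsFiltered.leftToMax j i)) _ w -
      q.lTensor _ (tr (D.map (IsFiltered.rightToMax j i)) _ y)) = 0 := by
    rw [map_sub, tr_map, hnat, tr_map]
    exact sub_eq_zero.2 hy.symm
  obtain ⟨k, f, hk⟩ := exists_free_eq_zero hc _ h0
  refine ⟨k, IsFiltered.leftToMax j i ≫ f, ?_⟩
  rw [map_sub, sub_eq_zero, hnat] at hk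
  rw [D.map_comp, tr_comp, hnat, hnat, hk]
  exact (lTensor_exact (D.obj k : Type u) hq hp).apply_apply_eq_zero _

include hc in
theorem isColimit_toAb {F : Adeq.MVF A} (hF : Adeq.adequate A F) :
    Nonempty (IsColimit (F.toAb.mapCocone c)) := by
  obtain ⟨M, N, g, ι, hι⟩ := (adequate_iff F).1 hF
  have hfm : ∀ {L : ModuleCat.{u + 1} A} {B B' : Adeq.Alg A} (f : B ⟶ B') (x : El (uO A L) B),
      toT (fmap (uO A L) f x) = tr f L (toT x) := fun _ _ => rfl
  have lift : ∀ z : El F c.pt, ∃ (j : J) (y : El F (D.obj j)), fmap F (c.ι.app j) y = z := by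
    intro z
    obtain ⟨j, y, hy⟩ := exists_tensor_lift hc (toT (app ι c.pt z))
    have h0 : tr (c.ι.app j) N (toT (app (uM A g) (D.obj j) (ofT y))) = 0 := by
      rw [← hfm, ← app_fmap, show fmap (uO A M) (c.ι.app j) (ofT y) = app ι c.pt z from hy]
      exact hι.zero c.pt z
    obtain ⟨k, f, hk⟩ := exists_tensor_eq_zero hc _ h0
    rw [← hfm, ← app_fmap] at hk
    obtain ⟨x, hx⟩ := hι.exists_lift _ _ hk
    refine ⟨k, x, hι.inj _ ?_⟩
    rw [app_fmap, hx, ← fmap_comp, c.w]
    exact hy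
  have eqz : ∀ {j : J} (x : El F (D.obj j)), fmap F (c.ι.app j) x = 0 →
      ∃ (k : J) (f : j ⟶ k), fmap F (D.map f) x = 0 := by
    intro j x hx
    have h0 : tr (c.ι.app j) M (toT (app ι (D.obj j) x)) = 0 := by
      rw [← hfm, ← app_fmap, hx, map_zero]
      rfl
    obtain ⟨k, f, hk⟩ := exists_tensor_eq_zero hc _ h0
    refine ⟨k, f, hι.inj _ ?_⟩
    rw [app_fmap, map_zero]
    exact hk
  have sound : ∀ (s : Cocone (D ⋙ F.toAb)) {i j : J} (x : El F (D.obj i)) (y : El F (D.obj j)),
      fmap F (c.ι.app i) x = fmap F (c.ι.app j) y → s.ι.app i x = s.ι.app j y := by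
    intro s i j x y h
    let m := IsFiltered.max i j
    have hxy : fmap F (c.ι.app m) (fmap F (D.map (IsFiltered.leftToMax i j)) x -
        fmap F (D.map (IsFiltered.rightToMax i j)) y) = 0 := by
      rw [map_sub, ← fmap_comp, ← fmap_comp, c.w, c.w]
      exact sub_eq_zero.2 h
    obtain ⟨k, f, hk⟩ := eqz _ hxy
    rw [map_sub, sub_eq_zero, ← fmap_comp, ← fmap_comp, ← D.map_comp, ← D.map_comp] at hk
    have e1 := ConcreteCategory.congr_hom (s.w (IsFiltered.leftToMax i j ≫ f)) x
    have e2 := ConcreteCategory.congr_hom (s.w (IsFiltered.rightToMax i j ≫ f)) y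
    exact e1.symm.trans ((congrArg (s.ι.app k) hk).trans e2)
  choose J₀ Y hY using lift
  refine ⟨{
    desc := fun s => AddCommGrpCat.ofHom (AddMonoidHom.mk' (fun z : El F c.pt => s.ι.app (J₀ z) (Y z)) ?_)
    fac := fun s j => ?_
    uniq := fun s φ hφ => ?_ }⟩
  · intro z z'
    let m := IsFiltered.max (J₀ z) (J₀ z')
    have e : fmap F (c.ι.app (J₀ (z + z'))) (Y (z + z')) = fmap F (c.ι.app m)
        (fmap F (D.map (IsFiltered.leftToMax _ _)) (Y z) + fmap F (D.map (IsFiltered.rightToMax _ _)) (Y z')) := by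
      rw [map_add, ← fmap_comp, ← fmap_comp, c.w, c.w, hY]
      exact (congrArg₂ (fun a b : El F c.pt => a + b) (hY z) (hY z')).symm
    rw [sound s _ _ e, map_add]
    exact congrArg₂ (· + ·) (ConcreteCategory.congr_hom (s.w _) (Y z))
      (ConcreteCategory.congr_hom (s.w _) (Y z'))
  · ext x
    exact sound s _ _ (hY _)
  · ext z
    have e := ConcreteCategory.congr_hom (hφ (J₀ z)) (Y z)
    exact (congrArg φ (hY z)).symm.trans e

end Groth.Agent.AdeqColim5
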